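import Mathlib
import Cfsg.Agent.Lib.helper8.ChevTwD4O

/-!
# Project T3S (helper14): `³D₄(q)` is finite
-/

set_option autoImplicit false

namespace Cfsg.Agent.Lib.helper14.T3S

open Cfsg Cfsg.Lie Cfsg.Agent.Lib.helper8

theorem finite_twistedD4 {K : Type*} [Field K] [Fintype K] {q : ℕ} (hq : IsPrimePow q)
    (hK : Fintype.card K = q ^ 3) : Finite ↥(twistedD4 K q) := by
  apply Nat.finite_of_card_ne_zero
  rw [h8twD4_card hq hK]
  have h2 : 2 ≤ q := hq.two_le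
  have h1 : 1 < q ^ 2 := Nat.one_lt_pow (by norm_num) (by omega)
  have h3 : 1 < q ^ 6 := Nat.one_lt_pow (by norm_num) (by omega)
  have hq0 : q ^ 12 ≠ 0 := pow_ne_zero 12 (by omega)
  have a : q ^ 2 - 1 ≠ 0 := by omega
  have b : q ^ 6 - 1 ≠ 0 := by omega
  have c : q ^ 8 + q ^ 4 + 1 ≠ 0 := by omega
  exact mul_ne_zero (mul_ne_zero (mul_ne_zero hq0 a) b) c

end Cfsg.Agent.Lib.helper14.T3S
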