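import Mathlib
import Cfsg.Agent.Lib.helper7.CeA

/-!
# Project T3S (helper14), for **S2110**: the unique `p`-element lift

For a finite central extension `σ : Γ →* G` whose kernel has order prime to `p`, every `p`-element
`g` of `G` has a unique `p`-element lift `pl σ p g`; the lift is multiplicative on every
`p`-subgroup of `G` and equivariant under conjugation by any element of `Γ`.
-/

set_option autoImplicit false

namespace Cfsg.Agent.Lib.helper14.T3S

open Cfsg.Agent.Lib.helper15.St2 Cfsg.Agent.Lib.helper7.Ce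

variable {Γ G : Type*} [Group Γ] [Group G]

/-- `x` is a `p`-element -/
def IsPel (p : ℕ) (x : Γ) : Prop := ∃ n : ℕ, x ^ p ^ n = 1

lemma IsPel.map {p : ℕ} {x : Γ} (h : IsPel p x) (f : Γ →* G) : IsPel p (f x) := by
  obtain ⟨n, hn⟩ := h
  exact ⟨n, by rw [← map_pow, hn, map_one]⟩

lemma IsPel.one (p : ℕ) : IsPel p (1 : Γ) := ⟨0, by simp⟩

lemma IsPel.of_pow_eq_one {p : ℕ} {x : Γ} (h : x ^ p = 1) : IsPel p x := ⟨1, by rw [pow_one, h]⟩

lemma IsPel.inv {p : ℕ} {x : Γ} (h : IsPel p x) : IsPel p x⁻¹ := by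
  obtain ⟨n, hn⟩ := h
  exact ⟨n, by rw [inv_pow, hn, inv_one]⟩

lemma IsPel.conj {p : ℕ} {x : Γ} (h : IsPel p x) (c : Γ) : IsPel p (cj c x) := by
  obtain ⟨n, hn⟩ := h
  refine ⟨n, ?_⟩
  have e : ∀ m : ℕ, (cj c x) ^ m = cj c (x ^ m) := by
    intro m
    induction m with
    | zero => simp [cj]
    | succ m ih => rw [pow_succ, ih, pow_succ]; unfold cj; group
  rw [e, hn]
  unfold cj
  group

lemma IsPel.mul_of_comm {p : ℕ} {x y : Γ} (hx : IsPel p x) (hy : IsPel p y)
    (hxy : x * y = y * x) : IsPel p (x * y) := by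
  obtain ⟨n, hn⟩ := hx
  obtain ⟨m, hm⟩ := hy
  refine ⟨n + m, ?_⟩
  have hc : Commute x y := hxy
  rw [hc.mul_pow, pow_add, pow_mul, hn, one_pow, one_mul, mul_comm (p ^ n), pow_mul, hm, one_pow]

lemma IsPel.of_mem {p : ℕ} {P : Subgroup G} (hP : IsPGroup p P) {g : G} (hg : g ∈ P) :
    IsPel p g := by
  obtain ⟨n, hn⟩ := hP ⟨g, hg⟩
  refine ⟨n, ?_⟩
  have := congrArg Subtype.val hn
  simpa using this

lemma IsPel.eq_one_of_coprime {p : ℕ} {x : Γ} (h : IsPel p x) {m : ℕ} (hm : x ^ m = 1)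
    (hc : m.Coprime p) : x = 1 := by
  obtain ⟨n, hn⟩ := h
  have h1 : orderOf x ∣ p ^ n := orderOf_dvd_of_pow_eq_one hn
  have h2 : orderOf x ∣ m := orderOf_dvd_of_pow_eq_one hm
  have h3 : orderOf x ∣ Nat.gcd m (p ^ n) := Nat.dvd_gcd h2 h1
  have h4 : Nat.gcd m (p ^ n) = 1 := Nat.Coprime.pow_right n hc
  rw [h4, Nat.dvd_one] at h3
  exact orderOf_eq_one_iff.1 h3

/-- in a finite nilpotent group the product of two `p`-elements is a `p`-element -/
lemma IsPel.mul_of_nilpotent {p : ℕ} [Fact p.Prime] {H : Type*} [Group H] [Finite H]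
    [Group.IsNilpotent H] {x y : H} (hx : IsPel p x) (hy : IsPel p y) : IsPel p (x * y) := by
  obtain ⟨T⟩ : Nonempty (Sylow p H) := inferInstance
  have hT : (T : Subgroup H).Normal := inferInstance
  haveI := Sylow.unique_of_normal T hT
  have key : ∀ z : H, IsPel p z → z ∈ (T : Subgroup H) := by
    intro z hz
    have hz' : IsPGroup p (Subgroup.zpowers z) := by
      obtain ⟨n, hn⟩ := hz
      rintro ⟨w, hw⟩
      obtain ⟨k, rfl⟩ := Subgroup.mem_zpowers_iff.1 hw
      refine ⟨n, ?_⟩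
      apply Subtype.ext
      simp only [Subgroup.coe_pow, Subgroup.coe_one]
      rw [← zpow_natCast, ← zpow_mul, mul_comm, zpow_mul, zpow_natCast, hn, one_zpow]
    obtain ⟨Q, hQ⟩ := hz'.exists_le_sylow
    have : Q = T := Subsingleton.elim _ _
    rw [← this]
    exact hQ (Subgroup.mem_zpowers z)
  exact IsPel.of_mem T.2 (Subgroup.mul_mem _ (key x hx) (key y hy))

/-- the `p`-element lift of `g` (junk value `1` when there is none) -/
noncomputable def pl (σ : Γ →* G) (p : ℕ) (g : G) : Γ := by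
  classical
  exact if h : ∃ x, σ x = g ∧ IsPel p x then h.choose else 1

section ce

variable {σ : Γ →* G} {p : ℕ}

lemma pl_spec_of_exists {g : G} (h : ∃ x, σ x = g ∧ IsPel p x) :
    σ (pl σ p g) = g ∧ IsPel p (pl σ p g) := by
  classical
  unfold pl
  rw [dif_pos h]
  exact h.choose_spec

variable [Finite Γ] [hp : Fact p.Prime]

/-- existence of a `p`-element lift -/
lemma exists_pel_lift (hσ : IsCE σ) (hc : (Nat.card σ.ker).Coprime p) {g : G} (hg : IsPel p g) :
    ∃ x, σ x = g ∧ IsPel p x := by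
  obtain ⟨n, hn⟩ := hg
  obtain ⟨x0, hx0⟩ := hσ.surj g
  set m := Nat.card σ.ker with hm
  have hcop : Nat.Coprime m (p ^ n) := Nat.Coprime.pow_right n hc
  have hmod : m ^ Nat.totient (p ^ n) ≡ 1 [MOD p ^ n] := Nat.ModEq.pow_totient hcop
  refine ⟨x0 ^ (m ^ Nat.totient (p ^ n)), ?_, n, ?_⟩
  · rw [map_pow, hx0]
    have h1 : orderOf g ∣ p ^ n := orderOf_dvd_of_pow_eq_one hn
    have h2 : m ^ Nat.totient (p ^ n) ≡ 1 [MOD orderOf g] := hmod.of_dvd h1
    have := (pow_eq_pow_iff_modEq (x := g)).2 h2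
    rw [this, pow_one]
  · rw [← pow_mul, mul_comm, pow_mul]
    have hz : x0 ^ p ^ n ∈ σ.ker := by
      rw [MonoidHom.mem_ker, map_pow, hx0, hn]
    have h1 : (⟨x0 ^ p ^ n, hz⟩ : σ.ker) ^ m = 1 := by
      rw [hm]; exact pow_card_eq_one'
    have h2 : (x0 ^ p ^ n) ^ m = 1 := by
      have := congrArg Subtype.val h1
      simpa using this
    have hpos : 0 < Nat.totient (p ^ n) := Nat.totient_pos.2 (pow_pos hp.out.pos n)
    obtain ⟨k, hk⟩ : m ∣ m ^ Nat.totient (p ^ n) := dvd_pow_self m (by omega)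
    rw [hk, pow_mul, h2, one_pow]

lemma pl_spec (hσ : IsCE σ) (hc : (Nat.card σ.ker).Coprime p) {g : G} (hg : IsPel p g) :
    σ (pl σ p g) = g ∧ IsPel p (pl σ p g) :=
  pl_spec_of_exists (exists_pel_lift hσ hc hg)

lemma map_pl (hσ : IsCE σ) (hc : (Nat.card σ.ker).Coprime p) {g : G} (hg : IsPel p g) :
    σ (pl σ p g) = g := (pl_spec hσ hc hg).1

lemma pel_pl (hσ : IsCE σ) (hc : (Nat.card σ.ker).Coprime p) {g : G} (hg : IsPel p g) :
    IsPel p (pl σ p g) := (pl_spec hσ hc hg).2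

/-- uniqueness of the `p`-element lift -/
lemma pel_lift_unique (hσ : IsCE σ) (hc : (Nat.card σ.ker).Coprime p) {x y : Γ}
    (hx : IsPel p x) (hy : IsPel p y) (hxy : σ x = σ y) : x = y := by
  have hz : x⁻¹ * y ∈ σ.ker := by
    rw [MonoidHom.mem_ker, map_mul, map_inv, hxy, inv_mul_cancel]
  have hcen := hσ.cen hz
  rw [Subgroup.mem_center_iff] at hcen
  have hcomm : x⁻¹ * y = y * x⁻¹ := by
    have := hcen x⁻¹
    -- x⁻¹ * (x⁻¹ * y) = (x⁻¹ * y) * x⁻¹
    have e : x⁻¹ * (x⁻¹ * y) = x⁻¹ * (y * x⁻¹) := by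
      rw [this]; group
    exact mul_left_cancel e
  have hpel : IsPel p (x⁻¹ * y) := IsPel.mul_of_comm hx.inv hy hcomm
  have h1 : (⟨x⁻¹ * y, hz⟩ : σ.ker) ^ Nat.card σ.ker = 1 := pow_card_eq_one'
  have h2 : (x⁻¹ * y) ^ Nat.card σ.ker = 1 := by
    have := congrArg Subtype.val h1
    simpa using this
  have := hpel.eq_one_of_coprime h2 hc
  exact (inv_mul_eq_one.1 this)

lemma pl_eq (hσ : IsCE σ) (hc : (Nat.card σ.ker).Coprime p) {x : Γ} (hx : IsPel p x) :
    pl σ p (σ x) = x := by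
  have h := pl_spec hσ hc (hx.map σ)
  exact pel_lift_unique hσ hc h.2 hx h.1

lemma pl_eq' (hσ : IsCE σ) (hc : (Nat.card σ.ker).Coprime p) {x : Γ} {g : G} (hx : IsPel p x)
    (hg : σ x = g) : pl σ p g = x := by
  rw [← hg]; exact pl_eq hσ hc hx

lemma pl_one (hσ : IsCE σ) (hc : (Nat.card σ.ker).Coprime p) : pl σ p (1 : G) = 1 :=
  pl_eq' hσ hc (IsPel.one p) (map_one σ)

lemma pl_inv (hσ : IsCE σ) (hc : (Nat.card σ.ker).Coprime p) {g : G} (hg : IsPel p g) :
    pl σ p g⁻¹ = (pl σ p g)⁻¹ := by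
  apply pl_eq' hσ hc (pel_pl hσ hc hg).inv
  rw [map_inv, map_pl hσ hc hg]

/-- equivariance of the `p`-element lift -/
lemma pl_cj (hσ : IsCE σ) (hc : (Nat.card σ.ker).Coprime p) (c : Γ) {g : G} (hg : IsPel p g) :
    pl σ p (cj (σ c) g) = cj c (pl σ p g) := by
  apply pl_eq' hσ hc ((pel_pl hσ hc hg).conj c)
  rw [map_cj, map_pl hσ hc hg]

/-- multiplicativity of the `p`-element lift on a `p`-subgroup -/
lemma pl_mul (hσ : IsCE σ) (hc : (Nat.card σ.ker).Coprime p) {P : Subgroup G}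
    (hP : IsPGroup p P) {g h : G} (hg : g ∈ P) (hh : h ∈ P) :
    pl σ p (g * h) = pl σ p g * pl σ p h := by
  haveI : Finite G := Finite.of_surjective σ hσ.surj
  have hgp : IsPel p g := IsPel.of_mem hP hg
  have hhp : IsPel p h := IsPel.of_mem hP hh
  set x := pl σ p g with hx
  set y := pl σ p h with hy
  have hxg : σ x = g := map_pl hσ hc hgp
  have hyh : σ y = h := map_pl hσ hc hhp
  -- the preimage of `P` is nilpotent
  let f : P.comap σ →* P := σ.subgroupComap P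
  haveI : Group.IsNilpotent P := hP.isNilpotent
  haveI : Group.IsNilpotent (P.comap σ) := by
    apply Subgroup.isNilpotent_of_ker_le_center f
    intro z hz
    rw [Subgroup.mem_center_iff]
    intro w
    have hz1 : σ z.1 = 1 := by
      exact congrArg Subtype.val (MonoidHom.mem_ker.1 hz)
    have hzc := hσ.cen (MonoidHom.mem_ker.2 hz1)
    rw [Subgroup.mem_center_iff] at hzc
    apply Subtype.ext
    simpa using hzc w.1
  have hxm : x ∈ P.comap σ := by rw [Subgroup.mem_comap, hxg]; exact hg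
  have hym : y ∈ P.comap σ := by rw [Subgroup.mem_comap, hyh]; exact hh
  have hxp : IsPel p (⟨x, hxm⟩ : P.comap σ) := by
    obtain ⟨n, hn⟩ := pel_pl hσ hc hgp
    exact ⟨n, Subtype.ext (by simpa using hn)⟩
  have hyp : IsPel p (⟨y, hym⟩ : P.comap σ) := by
    obtain ⟨n, hn⟩ := pel_pl hσ hc hhp
    exact ⟨n, Subtype.ext (by simpa using hn)⟩
  have hxy := IsPel.mul_of_nilpotent hxp hyp
  have hxy' : IsPel p (x * y) := by
    have := hxy.map (P.comap σ).subtype
    simpa using this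
  apply pl_eq' hσ hc hxy'
  rw [map_mul, hxg, hyh]

end ce

end Cfsg.Agent.Lib.helper14.T3S
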