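import Mathlib
import Cfsg.Agent.Lib.helper17.T3.Defs
import Cfsg.Agent.Lib.helper14.T3S.PLift

/-!
# Project T3S (helper14), for **S2110**: the `p`-element lift of a Steinberg system of type `³D₄`

Let `σ : Γ →* G` be a finite central extension whose kernel has order prime to the characteristic
`p`, and `S : SysT C G` whose positive unipotent group `S.U 0` is a `p`-group.  Then `pl σ p ∘ S` is
a `SysT C Γ` lifting `S`.
-/

set_option autoImplicit false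

namespace Cfsg.Agent.Lib.helper14.T3S

open Cfsg.Agent.Lib.helper15.St2 Cfsg.Agent.Lib.helper7.Ce Cfsg.Agent.Lib.helper17.T3

variable {F K : Type*} [Field F] [Field K] [Algebra F K] {C : Cub F K}
variable {Γ G : Type*} [Group Γ] [Group G]

/-- the generators of the positive unipotent group of the chamber starting at the short root `2k` -/
def Uset (S : SysT C G) (k : ZMod 6) : Set G :=
  {g | (∃ t, g = S.xs k t) ∨ (∃ t, g = S.xs (k + 1) t) ∨ (∃ t, g = S.xs (k + 2) t) ∨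
    (∃ c, g = S.xl k c) ∨ (∃ c, g = S.xl (k + 1) c) ∨ (∃ c, g = S.xl (k + 2) c)}

/-- the generators of the positive unipotent group of the chamber starting at the long root
`2k + 1` -/
def Vset (S : SysT C G) (k : ZMod 6) : Set G :=
  {g | (∃ t, g = S.xs (k + 1) t) ∨ (∃ t, g = S.xs (k + 2) t) ∨ (∃ t, g = S.xs (k + 3) t) ∨
    (∃ c, g = S.xl k c) ∨ (∃ c, g = S.xl (k + 1) c) ∨ (∃ c, g = S.xl (k + 2) c)}

/-- the unipotent group of the roots `2k, …, 2k + 5` -/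
def UU (S : SysT C G) (k : ZMod 6) : Subgroup G := Subgroup.closure (Uset S k)

/-- the unipotent group of the roots `2k + 1, …, 2k + 6` -/
def VV (S : SysT C G) (k : ZMod 6) : Subgroup G := Subgroup.closure (Vset S k)

section mem

variable (S : SysT C G) (k : ZMod 6)

lemma xs0_mem_UU (t : K) : S.xs k t ∈ UU S k := Subgroup.subset_closure (Or.inl ⟨t, rfl⟩)
lemma xs1_mem_UU (t : K) : S.xs (k + 1) t ∈ UU S k :=
  Subgroup.subset_closure (Or.inr (Or.inl ⟨t, rfl⟩))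
lemma xs2_mem_UU (t : K) : S.xs (k + 2) t ∈ UU S k :=
  Subgroup.subset_closure (Or.inr (Or.inr (Or.inl ⟨t, rfl⟩)))
lemma xl0_mem_UU (c : F) : S.xl k c ∈ UU S k :=
  Subgroup.subset_closure (Or.inr (Or.inr (Or.inr (Or.inl ⟨c, rfl⟩))))
lemma xl1_mem_UU (c : F) : S.xl (k + 1) c ∈ UU S k :=
  Subgroup.subset_closure (Or.inr (Or.inr (Or.inr (Or.inr (Or.inl ⟨c, rfl⟩)))))
lemma xl2_mem_UU (c : F) : S.xl (k + 2) c ∈ UU S k :=
  Subgroup.subset_closure (Or.inr (Or.inr (Or.inr (Or.inr (Or.inr ⟨c, rfl⟩)))))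

lemma xs1_mem_VV (t : K) : S.xs (k + 1) t ∈ VV S k := Subgroup.subset_closure (Or.inl ⟨t, rfl⟩)
lemma xs2_mem_VV (t : K) : S.xs (k + 2) t ∈ VV S k :=
  Subgroup.subset_closure (Or.inr (Or.inl ⟨t, rfl⟩))
lemma xs3_mem_VV (t : K) : S.xs (k + 3) t ∈ VV S k :=
  Subgroup.subset_closure (Or.inr (Or.inr (Or.inl ⟨t, rfl⟩)))
lemma xl0_mem_VV (c : F) : S.xl k c ∈ VV S k :=
  Subgroup.subset_closure (Or.inr (Or.inr (Or.inr (Or.inl ⟨c, rfl⟩))))
lemma xl1_mem_VV (c : F) : S.xl (k + 1) c ∈ VV S k :=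
  Subgroup.subset_closure (Or.inr (Or.inr (Or.inr (Or.inr (Or.inl ⟨c, rfl⟩)))))
lemma xl2_mem_VV (c : F) : S.xl (k + 2) c ∈ VV S k :=
  Subgroup.subset_closure (Or.inr (Or.inr (Or.inr (Or.inr (Or.inr ⟨c, rfl⟩)))))

end mem

section pgroup

variable (S : SysT C G) {p : ℕ}

/-- conjugation by `w` as a statement on `p`-groups -/
lemma isPGroup_of_cj_le {A B : Subgroup G} (hB : IsPGroup p B) (w : G)
    (h : ∀ g ∈ A, cj w g ∈ B) : IsPGroup p A := by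
  rintro ⟨g, hg⟩
  obtain ⟨n, hn⟩ := (IsPel.of_mem hB (h g hg))
  refine ⟨n, Subtype.ext ?_⟩
  simp only [Subgroup.coe_pow, Subgroup.coe_one]
  have e : ∀ m : ℕ, (cj w g) ^ m = cj w (g ^ m) := by
    intro m
    induction m with
    | zero => simp [cj]
    | succ m ih => rw [pow_succ, ih, pow_succ]; unfold cj; group
  rw [e] at hn
  unfold cj at hn
  have : g ^ p ^ n = w⁻¹ * (w * g ^ p ^ n * w⁻¹) * w := by group
  rw [this, hn]
  group

lemma cj_closure_le {s : Set G} {B : Subgroup G} (w : G) (h : ∀ g ∈ s, cj w g ∈ B) :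
    ∀ g ∈ Subgroup.closure s, cj w g ∈ B := by
  intro g hg
  induction hg using Subgroup.closure_induction with
  | mem x hx => exact h x hx
  | one => unfold cj; rw [mul_one, mul_inv_cancel]; exact B.one_mem
  | mul x y _ _ hx hy =>
    have : cj w (x * y) = cj w x * cj w y := by unfold cj; group
    rw [this]; exact B.mul_mem hx hy
  | inv x _ hx =>
    have : cj w x⁻¹ = (cj w x)⁻¹ := by unfold cj; group
    rw [this]; exact B.inv_mem hx

lemma one_ne_zero_K : (1 : K) ≠ 0 := one_ne_zero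

/-- `V k` is conjugated into `U k` by `ws k 1` -/
lemma VV_cj_le (k : ZMod 6) : ∀ g ∈ VV S k, cj (S.ws k 1) g ∈ UU S k := by
  apply cj_closure_le
  intro g hg
  have h1 : (1 : K) ≠ 0 := one_ne_zero
  rcases hg with ⟨t, rfl⟩ | ⟨t, rfl⟩ | ⟨t, rfl⟩ | ⟨c, rfl⟩ | ⟨c, rfl⟩ | ⟨c, rfl⟩
  · unfold SysT.ws; rw [S.ws_s1 k 1 t h1]; exact xs2_mem_UU S k _
  · unfold SysT.ws; rw [S.ws_s2 k 1 t h1]; exact xs1_mem_UU S k _
  · unfold SysT.ws; rw [S.ws_s3 k 1 t h1]; exact xs0_mem_UU S k _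
  · unfold SysT.ws; rw [S.ws_l0 k 1 c h1]; exact xl2_mem_UU S k _
  · unfold SysT.ws; rw [S.ws_l1 k 1 c h1]; exact xl1_mem_UU S k _
  · unfold SysT.ws; rw [S.ws_l2 k 1 c h1]; exact xl0_mem_UU S k _

/-- `U (k + 1)` is conjugated into `V k` by `wl k 1` -/
lemma UU_succ_cj_le (k : ZMod 6) : ∀ g ∈ UU S (k + 1), cj (S.wl k 1) g ∈ VV S k := by
  apply cj_closure_le
  intro g hg
  have h1 : (1 : F) ≠ 0 := one_ne_zero
  have e2 : k + 1 + 1 = k + 2 := by ring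
  have e3 : k + 1 + 2 = k + 3 := by ring
  unfold Uset at hg
  simp only [Set.mem_setOf_eq] at hg
  rw [e2, e3] at hg
  rcases hg with ⟨t, rfl⟩ | ⟨t, rfl⟩ | ⟨t, rfl⟩ | ⟨c, rfl⟩ | ⟨c, rfl⟩ | ⟨c, rfl⟩
  · unfold SysT.wl; rw [S.wl_s1 k 1 t h1]; exact xs3_mem_VV S k _
  · unfold SysT.wl; rw [S.wl_s2 k 1 t h1]; exact xs2_mem_VV S k _
  · unfold SysT.wl; rw [S.wl_s3 k 1 t h1]; exact xs1_mem_VV S k _
  · unfold SysT.wl; rw [S.wl_l1 k 1 c h1]; exact xl2_mem_VV S k _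
  · unfold SysT.wl; rw [S.wl_l2 k 1 c h1]; exact xl1_mem_VV S k _
  · unfold SysT.wl; rw [S.wl_l3 k 1 c h1]; exact xl0_mem_VV S k _

lemma isPGroup_VV_of_UU {k : ZMod 6} (h : IsPGroup p (UU S k)) : IsPGroup p (VV S k) :=
  isPGroup_of_cj_le h _ (VV_cj_le S k)

lemma isPGroup_UU_succ {k : ZMod 6} (h : IsPGroup p (UU S k)) : IsPGroup p (UU S (k + 1)) :=
  isPGroup_of_cj_le (isPGroup_VV_of_UU S h) _ (UU_succ_cj_le S k)

lemma isPGroup_UU (h : IsPGroup p (UU S 0)) (k : ZMod 6) : IsPGroup p (UU S k) := by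
  have key : ∀ n : ℕ, IsPGroup p (UU S (n : ZMod 6)) := by
    intro n
    induction n with
    | zero => rw [Nat.cast_zero]; exact h
    | succ n ih =>
      have := isPGroup_UU_succ S ih
      rw [Nat.cast_succ]; exact this
  have := key k.val
  rwa [ZMod.natCast_zmod_val] at this

lemma isPGroup_VV (h : IsPGroup p (UU S 0)) (k : ZMod 6) : IsPGroup p (VV S k) :=
  isPGroup_VV_of_UU S (isPGroup_UU S h k)

end pgroup

section lift

variable {σ : Γ →* G} {p : ℕ} [Finite Γ] [hp : Fact p.Prime]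

lemma plift_add (hσ : IsCE σ) (hc : (Nat.card σ.ker).Coprime p) {P : Subgroup G}
    (hP : IsPGroup p P) {a b c : G} (ha : a ∈ P) (hb : b ∈ P) (h : a * b = c) :
    pl σ p a * pl σ p b = pl σ p c := by
  rw [← h, pl_mul hσ hc hP ha hb]

lemma plift_comm (hσ : IsCE σ) (hc : (Nat.card σ.ker).Coprime p) {P : Subgroup G}
    (hP : IsPGroup p P) {a b : G} (ha : a ∈ P) (hb : b ∈ P) (h : a * b = b * a) :
    pl σ p a * pl σ p b = pl σ p b * pl σ p a := by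
  rw [← pl_mul hσ hc hP ha hb, h, pl_mul hσ hc hP hb ha]

lemma pl_cm (hσ : IsCE σ) (hc : (Nat.card σ.ker).Coprime p) {P : Subgroup G}
    (hP : IsPGroup p P) {a b : G} (ha : a ∈ P) (hb : b ∈ P) :
    pl σ p (cm a b) = cm (pl σ p a) (pl σ p b) := by
  unfold cm
  rw [pl_mul hσ hc hP (P.mul_mem (P.mul_mem ha hb) (P.inv_mem ha)) (P.inv_mem hb),
    pl_mul hσ hc hP (P.mul_mem ha hb) (P.inv_mem ha), pl_mul hσ hc hP ha hb,
    pl_inv hσ hc (IsPel.of_mem hP ha), pl_inv hσ hc (IsPel.of_mem hP hb)]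

lemma plift_cm1 (hσ : IsCE σ) (hc : (Nat.card σ.ker).Coprime p) {P : Subgroup G}
    (hP : IsPGroup p P) {a b c : G} (ha : a ∈ P) (hb : b ∈ P) (h : cm a b = c) :
    cm (pl σ p a) (pl σ p b) = pl σ p c := by
  rw [← pl_cm hσ hc hP ha hb, h]

lemma plift_cm3 (hσ : IsCE σ) (hc : (Nat.card σ.ker).Coprime p) {P : Subgroup G}
    (hP : IsPGroup p P) {a b c d e : G} (ha : a ∈ P) (hb : b ∈ P) (hc' : c ∈ P) (hd : d ∈ P)
    (he : e ∈ P) (h : cm a b = c * d * e) :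
    cm (pl σ p a) (pl σ p b) = pl σ p c * pl σ p d * pl σ p e := by
  rw [← pl_cm hσ hc hP ha hb, h, pl_mul hσ hc hP (P.mul_mem hc' hd) he,
    pl_mul hσ hc hP hc' hd]

lemma plift_cm4 (hσ : IsCE σ) (hc : (Nat.card σ.ker).Coprime p) {P : Subgroup G}
    (hP : IsPGroup p P) {a b c d e f : G} (ha : a ∈ P) (hb : b ∈ P) (hc' : c ∈ P) (hd : d ∈ P)
    (he : e ∈ P) (hf : f ∈ P) (h : cm a b = c * d * e * f) :
    cm (pl σ p a) (pl σ p b) = pl σ p c * pl σ p d * pl σ p e * pl σ p f := by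
  rw [← pl_cm hσ hc hP ha hb, h, pl_mul hσ hc hP (P.mul_mem (P.mul_mem hc' hd) he) hf,
    pl_mul hσ hc hP (P.mul_mem hc' hd) he, pl_mul hσ hc hP hc' hd]

lemma plift_w (hσ : IsCE σ) (hc : (Nat.card σ.ker).Coprime p) {a b c g g' : G}
    (ha : IsPel p a) (hb : IsPel p b) (hc' : IsPel p c) (hg : IsPel p g)
    (h : cj (a * b * c) g = g') :
    cj (pl σ p a * pl σ p b * pl σ p c) (pl σ p g) = pl σ p g' := by
  rw [← pl_cj hσ hc _ hg, map_mul, map_mul, map_pl hσ hc ha, map_pl hσ hc hb, map_pl hσ hc hc', h]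

/-- **The `p`-element lift of a Steinberg system of type `³D₄`.** -/
noncomputable def plSys (S : SysT C G) (hσ : IsCE σ) (hc : (Nat.card σ.ker).Coprime p)
    (hU : IsPGroup p (UU S 0)) : SysT C Γ :=
  have pU : ∀ k, IsPGroup p (UU S k) := isPGroup_UU S hU
  have pV : ∀ k, IsPGroup p (VV S k) := isPGroup_VV S hU
  have ps : ∀ k t, IsPel p (S.xs k t) := fun k t => IsPel.of_mem (pU k) (xs0_mem_UU S k t)
  have pl' : ∀ k c, IsPel p (S.xl k c) := fun k c => IsPel.of_mem (pU k) (xl0_mem_UU S k c)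
  { xs := fun k t => pl σ p (S.xs k t)
    xl := fun k c => pl σ p (S.xl k c)
    adds := fun k s t => plift_add hσ hc (pU k) (xs0_mem_UU S k s) (xs0_mem_UU S k t) (S.adds k s t)
    addl := fun k s t => plift_add hσ hc (pU k) (xl0_mem_UU S k s) (xl0_mem_UU S k t) (S.addl k s t)
    c_sl0 := fun k s c =>
      plift_comm hσ hc (pU k) (xs0_mem_UU S k s) (xl0_mem_UU S k c) (S.c_sl0 k s c)
    c_sl1 := fun k s c =>
      plift_comm hσ hc (pU k) (xs0_mem_UU S k s) (xl1_mem_UU S k c) (S.c_sl1 k s c)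
    c_ls1 := fun k c s =>
      plift_comm hσ hc (pU k) (xl0_mem_UU S k c) (xs1_mem_UU S k s) (S.c_ls1 k c s)
    c_ll1 := fun k c d =>
      plift_comm hσ hc (pU k) (xl0_mem_UU S k c) (xl1_mem_UU S k d) (S.c_ll1 k c d)
    c_ls2 := fun k c s =>
      plift_comm hσ hc (pU k) (xl0_mem_UU S k c) (xs2_mem_UU S k s) (S.c_ls2 k c s)
    ss1 := fun k s t =>
      plift_cm1 hσ hc (pU k) (xs0_mem_UU S k s) (xs1_mem_UU S k t) (S.ss1 k s t)
    ss2 := fun k s t =>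
      plift_cm3 hσ hc (pU k) (xs0_mem_UU S k s) (xs2_mem_UU S k t) (xl0_mem_UU S k _)
        (xs1_mem_UU S k _) (xl1_mem_UU S k _) (S.ss2 k s t)
    sl := fun k s c =>
      plift_cm4 hσ hc (pU k) (xs0_mem_UU S k s) (xl2_mem_UU S k c) (xl0_mem_UU S k _)
        (xs1_mem_UU S k _) (xl1_mem_UU S k _) (xs2_mem_UU S k _) (S.sl k s c)
    ll := fun k c d =>
      plift_cm1 hσ hc (pU k) (xl0_mem_UU S k c) (xl2_mem_UU S k d) (S.ll k c d)
    ls := fun k c t =>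
      plift_cm4 hσ hc (pV k) (xl0_mem_VV S k c) (xs3_mem_VV S k t) (xs1_mem_VV S k _)
        (xl1_mem_VV S k _) (xs2_mem_VV S k _) (xl2_mem_VV S k _) (S.ls k c t)
    ws_s0 := fun k t u ht => plift_w hσ hc (ps _ _) (ps _ _) (ps _ _) (ps _ _) (S.ws_s0 k t u ht)
    ws_s1 := fun k t u ht => plift_w hσ hc (ps _ _) (ps _ _) (ps _ _) (ps _ _) (S.ws_s1 k t u ht)
    ws_s2 := fun k t u ht => plift_w hσ hc (ps _ _) (ps _ _) (ps _ _) (ps _ _) (S.ws_s2 k t u ht)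
    ws_s3 := fun k t u ht => plift_w hσ hc (ps _ _) (ps _ _) (ps _ _) (ps _ _) (S.ws_s3 k t u ht)
    ws_s4 := fun k t u ht => plift_w hσ hc (ps _ _) (ps _ _) (ps _ _) (ps _ _) (S.ws_s4 k t u ht)
    ws_s5 := fun k t u ht => plift_w hσ hc (ps _ _) (ps _ _) (ps _ _) (ps _ _) (S.ws_s5 k t u ht)
    ws_l0 := fun k t c ht => plift_w hσ hc (ps _ _) (ps _ _) (ps _ _) (pl' _ _) (S.ws_l0 k t c ht)
    ws_l1 := fun k t c ht => plift_w hσ hc (ps _ _) (ps _ _) (ps _ _) (pl' _ _) (S.ws_l1 k t c ht)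
    ws_l2 := fun k t c ht => plift_w hσ hc (ps _ _) (ps _ _) (ps _ _) (pl' _ _) (S.ws_l2 k t c ht)
    ws_l3 := fun k t c ht => plift_w hσ hc (ps _ _) (ps _ _) (ps _ _) (pl' _ _) (S.ws_l3 k t c ht)
    ws_l4 := fun k t c ht => plift_w hσ hc (ps _ _) (ps _ _) (ps _ _) (pl' _ _) (S.ws_l4 k t c ht)
    ws_l5 := fun k t c ht => plift_w hσ hc (ps _ _) (ps _ _) (ps _ _) (pl' _ _) (S.ws_l5 k t c ht)
    wl_s0 := fun k c u h => plift_w hσ hc (pl' _ _) (pl' _ _) (pl' _ _) (ps _ _) (S.wl_s0 k c u h)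
    wl_s1 := fun k c u h => plift_w hσ hc (pl' _ _) (pl' _ _) (pl' _ _) (ps _ _) (S.wl_s1 k c u h)
    wl_s2 := fun k c u h => plift_w hσ hc (pl' _ _) (pl' _ _) (pl' _ _) (ps _ _) (S.wl_s2 k c u h)
    wl_s3 := fun k c u h => plift_w hσ hc (pl' _ _) (pl' _ _) (pl' _ _) (ps _ _) (S.wl_s3 k c u h)
    wl_s4 := fun k c u h => plift_w hσ hc (pl' _ _) (pl' _ _) (pl' _ _) (ps _ _) (S.wl_s4 k c u h)
    wl_s5 := fun k c u h => plift_w hσ hc (pl' _ _) (pl' _ _) (pl' _ _) (ps _ _) (S.wl_s5 k c u h)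
    wl_l0 := fun k c d h => plift_w hσ hc (pl' _ _) (pl' _ _) (pl' _ _) (pl' _ _) (S.wl_l0 k c d h)
    wl_l1 := fun k c d h => plift_w hσ hc (pl' _ _) (pl' _ _) (pl' _ _) (pl' _ _) (S.wl_l1 k c d h)
    wl_l2 := fun k c d h => plift_w hσ hc (pl' _ _) (pl' _ _) (pl' _ _) (pl' _ _) (S.wl_l2 k c d h)
    wl_l3 := fun k c d h => plift_w hσ hc (pl' _ _) (pl' _ _) (pl' _ _) (pl' _ _) (S.wl_l3 k c d h)
    wl_l4 := fun k c d h => plift_w hσ hc (pl' _ _) (pl' _ _) (pl' _ _) (pl' _ _) (S.wl_l4 k c d h)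
    wl_l5 := fun k c d h => plift_w hσ hc (pl' _ _) (pl' _ _) (pl' _ _) (pl' _ _) (S.wl_l5 k c d h) }

lemma plSys_xs (S : SysT C G) (hσ : IsCE σ) (hc : (Nat.card σ.ker).Coprime p)
    (hU : IsPGroup p (UU S 0)) (k : ZMod 6) (t : K) :
    (plSys S hσ hc hU).xs k t = pl σ p (S.xs k t) := rfl

lemma plSys_xl (S : SysT C G) (hσ : IsCE σ) (hc : (Nat.card σ.ker).Coprime p)
    (hU : IsPGroup p (UU S 0)) (k : ZMod 6) (c : F) :
    (plSys S hσ hc hU).xl k c = pl σ p (S.xl k c) := rfl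

lemma map_plSys_xs (S : SysT C G) (hσ : IsCE σ) (hc : (Nat.card σ.ker).Coprime p)
    (hU : IsPGroup p (UU S 0)) (k : ZMod 6) (t : K) :
    σ ((plSys S hσ hc hU).xs k t) = S.xs k t :=
  map_pl hσ hc (IsPel.of_mem (isPGroup_UU S hU k) (xs0_mem_UU S k t))

lemma map_plSys_xl (S : SysT C G) (hσ : IsCE σ) (hc : (Nat.card σ.ker).Coprime p)
    (hU : IsPGroup p (UU S 0)) (k : ZMod 6) (c : F) :
    σ ((plSys S hσ hc hU).xl k c) = S.xl k c :=
  map_pl hσ hc (IsPel.of_mem (isPGroup_UU S hU k) (xl0_mem_UU S k c))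

end lift

end Cfsg.Agent.Lib.helper14.T3S
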