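import Mathlib
import Cfsg.Agent.Lib.helper7.CeA

/-!
# Project T3S (helper14), for **S2110**: the transfer argument

A finite stem extension `σ : Γ →* G` and a subgroup `T` of `Γ` on which `σ` is injective and whose
image has index prime to `p`: then the kernel of `σ` has order prime to `p`.
-/

set_option autoImplicit false

namespace Cfsg.Agent.Lib.helper14.T3S

open Cfsg.Agent.Lib.helper7.Ce

variable {Γ G : Type*} [Group Γ] [Group G]

section

variable (σ : Γ →* G) (T : Subgroup Γ)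

/-- the preimage of the image of `T` -/
def satur : Subgroup Γ := (T.map σ).comap σ

lemma exists_T_of_mem_satur {h : Γ} (hh : h ∈ satur σ T) : ∃ t, t ∈ T ∧ σ t = σ h := by
  unfold satur at hh
  rw [Subgroup.mem_comap, Subgroup.mem_map] at hh
  obtain ⟨t, ht, e⟩ := hh
  exact ⟨t, ht, e⟩

/-- the `T`-component -/
noncomputable def tcomp (h : satur σ T) : Γ := (exists_T_of_mem_satur σ T h.2).choose

lemma tcomp_mem (h : satur σ T) : tcomp σ T h ∈ T := (exists_T_of_mem_satur σ T h.2).choose_spec.1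

lemma map_tcomp (h : satur σ T) : σ (tcomp σ T h) = σ h.1 :=
  (exists_T_of_mem_satur σ T h.2).choose_spec.2

variable {σ T}

lemma tcomp_unique (hT : ∀ x ∈ T, σ x = 1 → x = 1) {t : Γ} (ht : t ∈ T) (h : satur σ T)
    (e : σ t = σ h.1) : tcomp σ T h = t := by
  have h1 : (tcomp σ T h)⁻¹ * t ∈ T := T.mul_mem (T.inv_mem (tcomp_mem σ T h)) ht
  have h2 : σ ((tcomp σ T h)⁻¹ * t) = 1 := by
    rw [map_mul, map_inv, map_tcomp, e, inv_mul_cancel]
  have := hT _ h1 h2
  exact (inv_mul_eq_one.1 this)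

lemma tcomp_mul (hT : ∀ x ∈ T, σ x = 1 → x = 1) (h h' : satur σ T) :
    tcomp σ T (h * h') = tcomp σ T h * tcomp σ T h' := by
  apply tcomp_unique hT (T.mul_mem (tcomp_mem σ T h) (tcomp_mem σ T h'))
  rw [map_mul, map_tcomp, map_tcomp, Subgroup.coe_mul, map_mul]

/-- the `Z`-component, as a homomorphism to the centre -/
noncomputable def zcomp (hσ : IsCE σ) (hT : ∀ x ∈ T, σ x = 1 → x = 1) :
    satur σ T →* Subgroup.center Γ where
  toFun h := ⟨h.1 * (tcomp σ T h)⁻¹, hσ.cen (by
    rw [MonoidHom.mem_ker, map_mul, map_inv, map_tcomp, mul_inv_cancel])⟩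
  map_one' := by
    apply Subtype.ext
    have : tcomp σ T 1 = 1 := tcomp_unique hT T.one_mem 1 (by simp)
    simp [this]
  map_mul' h h' := by
    apply Subtype.ext
    have hz : h'.1 * (tcomp σ T h')⁻¹ ∈ Subgroup.center Γ := hσ.cen (by
      rw [MonoidHom.mem_ker, map_mul, map_inv, map_tcomp, mul_inv_cancel])
    rw [Subgroup.mem_center_iff] at hz
    simp only [Subgroup.coe_mul]
    rw [tcomp_mul hT, mul_inv_rev]
    calc h.1 * h'.1 * ((tcomp σ T h')⁻¹ * (tcomp σ T h)⁻¹)
        = h.1 * (h'.1 * (tcomp σ T h')⁻¹) * (tcomp σ T h)⁻¹ := by group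
      _ = h.1 * ((tcomp σ T h)⁻¹ * (h'.1 * (tcomp σ T h')⁻¹)) := by
          rw [mul_assoc, hz (tcomp σ T h)⁻¹]
      _ = h.1 * (tcomp σ T h)⁻¹ * (h'.1 * (tcomp σ T h')⁻¹) := by group

lemma zcomp_of_ker (hσ : IsCE σ) (hT : ∀ x ∈ T, σ x = 1 → x = 1) (h : satur σ T)
    (hk : σ h.1 = 1) : ((zcomp hσ hT h : Subgroup.center Γ) : Γ) = h.1 := by
  have : tcomp σ T h = 1 := tcomp_unique hT T.one_mem h (by rw [hk, map_one])
  change h.1 * (tcomp σ T h)⁻¹ = h.1
  rw [this, inv_one, mul_one]

end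

open scoped IsMulCommutative in
/-- **The transfer argument.** -/
theorem ker_coprime_of_section [Finite Γ] {σ : Γ →* G} (hσ : IsCE σ)
    (hstem : σ.ker ≤ commutator Γ) {p : ℕ} [hp : Fact p.Prime] (T : Subgroup Γ)
    (hT : ∀ x ∈ T, σ x = 1 → x = 1) (hidx : ((T.map σ).index).Coprime p) :
    (Nat.card σ.ker).Coprime p := by
  classical
  set H := satur σ T with hH
  have hidxH : H.index = (T.map σ).index := Subgroup.index_comap_of_surjective _ hσ.surj
  -- every element of the kernel has order dividing the index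
  have key : ∀ z : Γ, σ z = 1 → z ^ H.index = 1 := by
    intro z hz
    have hzc : z ∈ Subgroup.center Γ := hσ.cen (MonoidHom.mem_ker.2 hz)
    rw [Subgroup.mem_center_iff] at hzc
    have hcomm : ∀ (k : ℕ) (g : Γ), g⁻¹ * z ^ k * g = z ^ k := by
      intro k g
      have : Commute g (z ^ k) := (show Commute g z from hzc g).pow_right k
      rw [mul_assoc, ← this.eq, inv_mul_cancel_left]
    have h1 := MonoidHom.transfer_eq_pow (zcomp hσ hT) z (fun k g _ => hcomm k g)
    have h2 : MonoidHom.transfer (zcomp hσ hT) z = 1 := by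
      have := Abelianization.commutator_subset_ker (MonoidHom.transfer (zcomp hσ hT))
        (hstem (MonoidHom.mem_ker.2 hz))
      exact MonoidHom.mem_ker.1 this
    rw [h2] at h1
    have h3 := congrArg (fun w : Subgroup.center Γ => (w : Γ)) h1
    simp only [Subgroup.coe_one] at h3
    rw [zcomp_of_ker hσ hT _ (by simp [map_pow, hz])] at h3
    exact h3.symm
  -- Cauchy
  rw [Nat.coprime_comm, Nat.Prime.coprime_iff_not_dvd hp.out]
  intro hdvd
  obtain ⟨z, hz⟩ := exists_prime_orderOf_dvd_card' (G := σ.ker) p hdvd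
  have hz1 : σ z.1 = 1 := MonoidHom.mem_ker.1 z.2
  have h1 := key z.1 hz1
  have h2 : z ^ H.index = 1 := Subtype.ext (by simpa using h1)
  have h3 : p ∣ H.index := by
    rw [← hz]; exact orderOf_dvd_of_pow_eq_one h2
  rw [hidxH] at h3
  have := Nat.Coprime.eq_one_of_dvd hidx.symm h3
  exact hp.out.one_lt.ne' this

end Cfsg.Agent.Lib.helper14.T3S
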