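import Mathlib
import Cfsg.Prelude.Def_KGroupFacts
import Cfsg.Agent.Lib.helper14.T3S.SysPl
import Cfsg.Agent.Lib.helper14.T3S.Transfer

/-!
# Project T3S (helper14), for **S2110**: the assembly, on the statements of the other blocks
-/

set_option autoImplicit false

namespace Cfsg.Agent.Lib.helper14.T3S

open Cfsg.Agent.Lib.helper15.St2 Cfsg.Agent.Lib.helper7.Ce Cfsg.Agent.Lib.helper17.T3
open scoped commutatorElement

variable {Γ G : Type*} [Group Γ] [Group G]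

/-- a subgroup of a stem extension that maps onto the base is everything -/
lemma eq_top_of_stem {σ : Γ →* G} (hσ : Cfsg.IsStemExtension σ) (H : Subgroup Γ)
    (hH : H.map σ = ⊤) : H = ⊤ := by
  have hdec : ∀ x : Γ, ∃ h ∈ H, ∃ z ∈ σ.ker, x = h * z := by
    intro x
    have : σ x ∈ H.map σ := by rw [hH]; exact Subgroup.mem_top _
    obtain ⟨h, hh, e⟩ := Subgroup.mem_map.1 this
    refine ⟨h, hh, h⁻¹ * x, ?_, by group⟩
    rw [MonoidHom.mem_ker, map_mul, map_inv, e, inv_mul_cancel]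
  have hcomm : commutator Γ ≤ H := by
    rw [commutator_def, Subgroup.commutator_le]
    intro g₁ _ g₂ _
    obtain ⟨h₁, hh₁, z₁, hz₁, rfl⟩ := hdec g₁
    obtain ⟨h₂, hh₂, z₂, hz₂, rfl⟩ := hdec g₂
    have c1 := hσ.2.1 hz₁
    have c2 := hσ.2.1 hz₂
    rw [Subgroup.mem_center_iff] at c1 c2
    have : ⁅h₁ * z₁, h₂ * z₂⁆ = ⁅h₁, h₂⁆ := by
      rw [commutatorElement_def, commutatorElement_def]
      have e1 : (h₁ * z₁)⁻¹ = h₁⁻¹ * z₁⁻¹ := by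
        rw [mul_inv_rev]
        have := c1 h₁⁻¹
        -- z₁ commutes with everything, so does z₁⁻¹
        have h' : z₁⁻¹ * h₁⁻¹ = h₁⁻¹ * z₁⁻¹ := by
          have := c1 h₁
          calc z₁⁻¹ * h₁⁻¹ = (h₁ * z₁)⁻¹ := by rw [mul_inv_rev]
            _ = (z₁ * h₁)⁻¹ := by rw [this]
            _ = h₁⁻¹ * z₁⁻¹ := by rw [mul_inv_rev]
        exact h'
      have e2 : (h₂ * z₂)⁻¹ = h₂⁻¹ * z₂⁻¹ := by
        have := c2 h₂
        calc (h₂ * z₂)⁻¹ = (z₂ * h₂)⁻¹ := by rw [this]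
          _ = h₂⁻¹ * z₂⁻¹ := by rw [mul_inv_rev]
      rw [e1, e2]
      calc h₁ * z₁ * (h₂ * z₂) * (h₁⁻¹ * z₁⁻¹) * (h₂⁻¹ * z₂⁻¹)
          = h₁ * (z₁ * (h₂ * (z₂ * (h₁⁻¹ * (z₁⁻¹ * (h₂⁻¹ * z₂⁻¹)))))) := by group
        _ = h₁ * (z₁ * (h₂ * (z₂ * (h₁⁻¹ * ((h₂⁻¹ * z₂⁻¹) * z₁⁻¹))))) := by
            have : z₁⁻¹ * (h₂⁻¹ * z₂⁻¹) = (h₂⁻¹ * z₂⁻¹) * z₁⁻¹ := by
              have := c1 (h₂⁻¹ * z₂⁻¹)⁻¹
              calc z₁⁻¹ * (h₂⁻¹ * z₂⁻¹) = ((h₂⁻¹ * z₂⁻¹)⁻¹ * z₁)⁻¹ := by group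
                _ = (z₁ * (h₂⁻¹ * z₂⁻¹)⁻¹)⁻¹ := by rw [this]
                _ = (h₂⁻¹ * z₂⁻¹) * z₁⁻¹ := by group
            rw [this]
        _ = h₁ * (z₁ * (h₂ * ((z₂ * (h₁⁻¹ * h₂⁻¹)) * z₂⁻¹ * z₁⁻¹))) := by group
        _ = h₁ * (z₁ * (h₂ * (((h₁⁻¹ * h₂⁻¹) * z₂) * z₂⁻¹ * z₁⁻¹))) := by rw [c2 (h₁⁻¹ * h₂⁻¹)]
        _ = h₁ * (z₁ * ((h₂ * h₁⁻¹ * h₂⁻¹) * z₁⁻¹)) := by group
        _ = h₁ * ((h₂ * h₁⁻¹ * h₂⁻¹) * z₁ * z₁⁻¹) := by rw [c1 (h₂ * h₁⁻¹ * h₂⁻¹)]; group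
        _ = h₁ * h₂ * h₁⁻¹ * h₂⁻¹ := by group
    rw [this]
    exact Subgroup.commutator_mem_commutator hh₁ hh₂ |> fun h => by
      have hle : ⁅H, H⁆ ≤ H := Subgroup.commutator_le.2 (fun a ha b hb => by
        rw [commutatorElement_def]
        exact H.mul_mem (H.mul_mem (H.mul_mem ha hb) (H.inv_mem ha)) (H.inv_mem hb))
      exact hle h
  rw [eq_top_iff]
  intro x _
  obtain ⟨h, hh, z, hz, rfl⟩ := hdec x
  exact H.mul_mem hh (hcomm (hσ.2.2 hz))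

variable {F K : Type*} [Field F] [Field K] [Algebra F K] {C : Cub F K}

/-- a lifted system generates a stem extension -/
lemma gen_top_of_stem {σ : Γ →* G} (hσ : Cfsg.IsStemExtension σ) (S : SysT C G) (Q : SysT C Γ)
    (hgen : S.gen = ⊤) (hs : ∀ k t, σ (Q.xs k t) = S.xs k t)
    (hl : ∀ k c, σ (Q.xl k c) = S.xl k c) : Q.gen = ⊤ := by
  apply eq_top_of_stem hσ
  rw [eq_top_iff, ← hgen]
  unfold SysT.gen
  rw [Subgroup.closure_le]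
  rintro g (⟨k, t, rfl⟩ | ⟨k, c, rfl⟩)
  · exact ⟨Q.xs k t, Subgroup.subset_closure (Or.inl ⟨k, t, rfl⟩), hs k t⟩
  · exact ⟨Q.xl k c, Subgroup.subset_closure (Or.inr ⟨k, c, rfl⟩), hl k c⟩

/-- **The assembly**, on the statements of T3C (a section over `U`), T3A (injectivity from a lifted
system) and T3M (the model). -/
theorem stem_trivial_core [Finite Γ] {σ : Γ →* G} (hσ : Cfsg.IsStemExtension σ) (S : SysT C G)
    {p : ℕ} [hp : Fact p.Prime] (hgen : S.gen = ⊤) (hU : IsPGroup p (UU S 0))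
    (hidx : ((UU S 0).index).Coprime p)
    (hsec : ∃ T : Subgroup Γ, (∀ x ∈ T, σ x = 1 → x = 1) ∧ T.map σ = UU S 0)
    (hinj : ∀ Q : SysT C Γ, Q.gen = ⊤ → (∀ k t, σ (Q.xs k t) = S.xs k t) →
      (∀ k c, σ (Q.xl k c) = S.xl k c) → Function.Injective σ)
    (y : Γ) (hy : y ∈ σ.ker) : y = 1 := by
  have hce : IsCE σ := ⟨hσ.1, hσ.2.1⟩
  obtain ⟨T, hT, hTU⟩ := hsec
  have hcop : (Nat.card σ.ker).Coprime p := by
    apply ker_coprime_of_section hce hσ.2.2 T hT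
    rw [hTU]; exact hidx
  have hs := map_plSys_xs S hce hcop hU
  have hl := map_plSys_xl S hce hcop hU
  have hQ := gen_top_of_stem hσ S (plSys S hce hcop hU) hgen hs hl
  have := hinj _ hQ hs hl
  apply this
  rw [MonoidHom.mem_ker.1 hy, map_one]

/-- **The assembly, second form**: on a full lift of the system (project T3C, `exists_lift_sysT`) and
the injectivity from a lifted system (project T3A, `inj_of_model'`). -/
theorem stem_trivial_core2 {σ : Γ →* G} (hσ : Cfsg.IsStemExtension σ) (S : SysT C G)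
    (hgen : S.gen = ⊤)
    (hlift : ∃ Q : SysT C Γ, (∀ k t, σ (Q.xs k t) = S.xs k t) ∧ ∀ k c, σ (Q.xl k c) = S.xl k c)
    (hinj : ∀ Q : SysT C Γ, Q.gen = ⊤ → (∀ k t, σ (Q.xs k t) = S.xs k t) →
      (∀ k c, σ (Q.xl k c) = S.xl k c) → Function.Injective σ)
    (y : Γ) (hy : y ∈ σ.ker) : y = 1 := by
  obtain ⟨Q, hs, hl⟩ := hlift
  have hQ := gen_top_of_stem hσ S Q hgen hs hl
  apply hinj Q hQ hs hl
  rw [MonoidHom.mem_ker.1 hy, map_one]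

end Cfsg.Agent.Lib.helper14.T3S
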