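import Mathlib
import Cfsg.Agent.Lib.helper17.T3.Defs

/-!
# Project T3S (helper14): the rotation trick for `SysT`

If `ρ` rotates the root elements, `cj ρ (xs k t) = xs (k + 1) t`, `cj ρ (xl k c) = xl (k + 1) c`,
then every field of `SysT` follows from its instance at `k = 0`.
-/

set_option autoImplicit false

namespace Cfsg.Agent.Lib.helper14.T3S

open Cfsg.Agent.Lib.helper15.St2 Cfsg.Agent.Lib.helper7.Ce Cfsg.Agent.Lib.helper17.T3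

variable {F K : Type*} [Field F] [Field K] [Algebra F K]
variable {G : Type*} [Group G]

lemma cj_cj_cj (e w x : G) : cj e (cj w x) = cj (cj e w) (cj e x) := by
  unfold cj; group

section rot

variable (xs : ZMod 6 → K → G) (xl : ZMod 6 → F → G) (ρ : G)
  (hρs : ∀ k t, cj ρ (xs k t) = xs (k + 1) t) (hρl : ∀ k c, cj ρ (xl k c) = xl (k + 1) c)

include hρs in
lemma rot_pow_s (n : ℕ) (k : ZMod 6) (t : K) : cj (ρ ^ n) (xs k t) = xs (k + n) t := by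
  induction n generalizing k with
  | zero => rw [pow_zero, cj_one_left, Nat.cast_zero, add_zero]
  | succ n ih =>
    rw [pow_succ', ← cj_cj, ih, hρs, Nat.cast_succ]
    congr 1
    ring

include hρl in
lemma rot_pow_l (n : ℕ) (k : ZMod 6) (c : F) : cj (ρ ^ n) (xl k c) = xl (k + n) c := by
  induction n generalizing k with
  | zero => rw [pow_zero, cj_one_left, Nat.cast_zero, add_zero]
  | succ n ih =>
    rw [pow_succ', ← cj_cj, ih, hρl, Nat.cast_succ]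
    congr 1
    ring

include hρs in
/-- rotation of a short root element from the index `j` to `k + j` -/
lemma rot_s (k j : ZMod 6) (t : K) : cj (ρ ^ k.val) (xs j t) = xs (k + j) t := by
  rw [rot_pow_s xs ρ hρs, ZMod.natCast_zmod_val, add_comm]

include hρl in
lemma rot_l (k j : ZMod 6) (c : F) : cj (ρ ^ k.val) (xl j c) = xl (k + j) c := by
  rw [rot_pow_l xl ρ hρl, ZMod.natCast_zmod_val, add_comm]

end rot

/-- **The rotation trick**: a `SysT` from the instances of its fields at `k = 0`. -/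
def SysT.ofRot (C : Cub F K) (xs : ZMod 6 → K → G) (xl : ZMod 6 → F → G) (ρ : G)
    (hρs : ∀ k t, cj ρ (xs k t) = xs (k + 1) t) (hρl : ∀ k c, cj ρ (xl k c) = xl (k + 1) c)
    (adds : ∀ s t, xs 0 s * xs 0 t = xs 0 (s + t))
    (addl : ∀ c d, xl 0 c * xl 0 d = xl 0 (c + d))
    (c_sl0 : ∀ s c, xs 0 s * xl 0 c = xl 0 c * xs 0 s)
    (c_sl1 : ∀ s c, xs 0 s * xl 1 c = xl 1 c * xs 0 s)
    (c_ls1 : ∀ c s, xl 0 c * xs 1 s = xs 1 s * xl 0 c)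
    (c_ll1 : ∀ c d, xl 0 c * xl 1 d = xl 1 d * xl 0 c)
    (c_ls2 : ∀ c s, xl 0 c * xs 2 s = xs 2 s * xl 0 c)
    (ss1 : ∀ s t, cm (xs 0 s) (xs 1 t) = xl 0 (-(C.tr (s * t))))
    (ss2 : ∀ s t, cm (xs 0 s) (xs 2 t) =
      xl 0 (-(C.tr (C.sharp s * t))) * xs 1 (C.cross s t) * xl 1 (C.tr (s * C.sharp t)))
    (sl : ∀ s c, cm (xs 0 s) (xl 2 c) =
      xl 0 (c * C.nm s) * xs 1 (-(c • C.sharp s)) * xl 1 (c ^ 2 * C.nm s) * xs 2 (-(c • s)))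
    (ll : ∀ c d, cm (xl 0 c) (xl 2 d) = xl 1 (c * d))
    (ls : ∀ c t, cm (xl 0 c) (xs 3 t) =
      xs 1 (-(c • t)) * xl 1 (-(c ^ 2 * C.nm t)) * xs 2 (c • C.sharp t) * xl 2 (c * C.nm t))
    (ws_s0 : ∀ t u, t ≠ 0 → cj (xs 0 t * xs 3 t⁻¹ * xs 0 t) (xs 0 u) = xs 3 (t⁻¹ ^ 2 * u))
    (ws_s1 : ∀ t u, t ≠ 0 → cj (xs 0 t * xs 3 t⁻¹ * xs 0 t) (xs 1 u) = xs 2 ((C.nm t)⁻¹ • (t ^ 2 * u)))
    (ws_s2 : ∀ t u, t ≠ 0 → cj (xs 0 t * xs 3 t⁻¹ * xs 0 t) (xs 2 u) = xs 1 (-(C.nm t • (t⁻¹ ^ 2 * u))))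
    (ws_s3 : ∀ t u, t ≠ 0 → cj (xs 0 t * xs 3 t⁻¹ * xs 0 t) (xs 3 u) = xs 0 (t ^ 2 * u))
    (ws_s4 : ∀ t u, t ≠ 0 → cj (xs 0 t * xs 3 t⁻¹ * xs 0 t) (xs 4 u) = xs 5 (C.nm t • (t⁻¹ ^ 2 * u)))
    (ws_s5 : ∀ t u, t ≠ 0 → cj (xs 0 t * xs 3 t⁻¹ * xs 0 t) (xs 5 u) = xs 4 (-((C.nm t)⁻¹ • (t ^ 2 * u))))
    (ws_l0 : ∀ t c, t ≠ 0 → cj (xs 0 t * xs 3 t⁻¹ * xs 0 t) (xl 0 c) = xl 2 (-((C.nm t)⁻¹ * c)))
    (ws_l1 : ∀ t c, t ≠ 0 → cj (xs 0 t * xs 3 t⁻¹ * xs 0 t) (xl 1 c) = xl 1 c)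
    (ws_l2 : ∀ t c, t ≠ 0 → cj (xs 0 t * xs 3 t⁻¹ * xs 0 t) (xl 2 c) = xl 0 (C.nm t * c))
    (ws_l3 : ∀ t c, t ≠ 0 → cj (xs 0 t * xs 3 t⁻¹ * xs 0 t) (xl 3 c) = xl 5 (-(C.nm t * c)))
    (ws_l4 : ∀ t c, t ≠ 0 → cj (xs 0 t * xs 3 t⁻¹ * xs 0 t) (xl 4 c) = xl 4 c)
    (ws_l5 : ∀ t c, t ≠ 0 → cj (xs 0 t * xs 3 t⁻¹ * xs 0 t) (xl 5 c) = xl 3 ((C.nm t)⁻¹ * c))
    (wl_s0 : ∀ c u, c ≠ 0 → cj (xl 0 c * xl 3 c⁻¹ * xl 0 c) (xs 0 u) = xs 4 (-(c⁻¹ • u)))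
    (wl_s1 : ∀ c u, c ≠ 0 → cj (xl 0 c * xl 3 c⁻¹ * xl 0 c) (xs 1 u) = xs 3 (c⁻¹ • u))
    (wl_s2 : ∀ c u, c ≠ 0 → cj (xl 0 c * xl 3 c⁻¹ * xl 0 c) (xs 2 u) = xs 2 u)
    (wl_s3 : ∀ c u, c ≠ 0 → cj (xl 0 c * xl 3 c⁻¹ * xl 0 c) (xs 3 u) = xs 1 (-(c • u)))
    (wl_s4 : ∀ c u, c ≠ 0 → cj (xl 0 c * xl 3 c⁻¹ * xl 0 c) (xs 4 u) = xs 0 (c • u))
    (wl_s5 : ∀ c u, c ≠ 0 → cj (xl 0 c * xl 3 c⁻¹ * xl 0 c) (xs 5 u) = xs 5 u)
    (wl_l0 : ∀ c d, c ≠ 0 → cj (xl 0 c * xl 3 c⁻¹ * xl 0 c) (xl 0 d) = xl 3 (c⁻¹ ^ 2 * d))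
    (wl_l1 : ∀ c d, c ≠ 0 → cj (xl 0 c * xl 3 c⁻¹ * xl 0 c) (xl 1 d) = xl 2 (-(c⁻¹ * d)))
    (wl_l2 : ∀ c d, c ≠ 0 → cj (xl 0 c * xl 3 c⁻¹ * xl 0 c) (xl 2 d) = xl 1 (c * d))
    (wl_l3 : ∀ c d, c ≠ 0 → cj (xl 0 c * xl 3 c⁻¹ * xl 0 c) (xl 3 d) = xl 0 (c ^ 2 * d))
    (wl_l4 : ∀ c d, c ≠ 0 → cj (xl 0 c * xl 3 c⁻¹ * xl 0 c) (xl 4 d) = xl 5 (-(c * d)))
    (wl_l5 : ∀ c d, c ≠ 0 → cj (xl 0 c * xl 3 c⁻¹ * xl 0 c) (xl 5 d) = xl 4 (c⁻¹ * d)) :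
    SysT C G where
  xs := xs
  xl := xl
  adds k s t := by
    have h := congrArg (cj (ρ ^ k.val)) (adds s t)
    simpa only [cj_mul, rot_s xs ρ hρs, rot_l xl ρ hρl, add_zero] using h
  addl k c d := by
    have h := congrArg (cj (ρ ^ k.val)) (addl c d)
    simpa only [cj_mul, rot_s xs ρ hρs, rot_l xl ρ hρl, add_zero] using h
  c_sl0 k s c := by
    have h := congrArg (cj (ρ ^ k.val)) (c_sl0 s c)
    simpa only [cj_mul, rot_s xs ρ hρs, rot_l xl ρ hρl, add_zero] using h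
  c_sl1 k s c := by
    have h := congrArg (cj (ρ ^ k.val)) (c_sl1 s c)
    simpa only [cj_mul, rot_s xs ρ hρs, rot_l xl ρ hρl, add_zero] using h
  c_ls1 k c s := by
    have h := congrArg (cj (ρ ^ k.val)) (c_ls1 c s)
    simpa only [cj_mul, rot_s xs ρ hρs, rot_l xl ρ hρl, add_zero] using h
  c_ll1 k c d := by
    have h := congrArg (cj (ρ ^ k.val)) (c_ll1 c d)
    simpa only [cj_mul, rot_s xs ρ hρs, rot_l xl ρ hρl, add_zero] using h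
  c_ls2 k c s := by
    have h := congrArg (cj (ρ ^ k.val)) (c_ls2 c s)
    simpa only [cj_mul, rot_s xs ρ hρs, rot_l xl ρ hρl, add_zero] using h
  ss1 k s t := by
    have h := congrArg (cj (ρ ^ k.val)) (ss1 s t)
    simpa only [cj_mul, cj_cm, rot_s xs ρ hρs, rot_l xl ρ hρl, add_zero] using h
  ss2 k s t := by
    have h := congrArg (cj (ρ ^ k.val)) (ss2 s t)
    simpa only [cj_mul, cj_cm, rot_s xs ρ hρs, rot_l xl ρ hρl, add_zero] using h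
  sl k s c := by
    have h := congrArg (cj (ρ ^ k.val)) (sl s c)
    simpa only [cj_mul, cj_cm, rot_s xs ρ hρs, rot_l xl ρ hρl, add_zero] using h
  ll k c d := by
    have h := congrArg (cj (ρ ^ k.val)) (ll c d)
    simpa only [cj_mul, cj_cm, rot_s xs ρ hρs, rot_l xl ρ hρl, add_zero] using h
  ls k c t := by
    have h := congrArg (cj (ρ ^ k.val)) (ls c t)
    simpa only [cj_mul, cj_cm, rot_s xs ρ hρs, rot_l xl ρ hρl, add_zero] using h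
  ws_s0 k t u ht := by
    have h := congrArg (cj (ρ ^ k.val)) (ws_s0 t u ht)
    simpa only [cj_cj_cj, cj_mul, rot_s xs ρ hρs, rot_l xl ρ hρl, add_zero] using h
  ws_s1 k t u ht := by
    have h := congrArg (cj (ρ ^ k.val)) (ws_s1 t u ht)
    simpa only [cj_cj_cj, cj_mul, rot_s xs ρ hρs, rot_l xl ρ hρl, add_zero] using h
  ws_s2 k t u ht := by
    have h := congrArg (cj (ρ ^ k.val)) (ws_s2 t u ht)
    simpa only [cj_cj_cj, cj_mul, rot_s xs ρ hρs, rot_l xl ρ hρl, add_zero] using h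
  ws_s3 k t u ht := by
    have h := congrArg (cj (ρ ^ k.val)) (ws_s3 t u ht)
    simpa only [cj_cj_cj, cj_mul, rot_s xs ρ hρs, rot_l xl ρ hρl, add_zero] using h
  ws_s4 k t u ht := by
    have h := congrArg (cj (ρ ^ k.val)) (ws_s4 t u ht)
    simpa only [cj_cj_cj, cj_mul, rot_s xs ρ hρs, rot_l xl ρ hρl, add_zero] using h
  ws_s5 k t u ht := by
    have h := congrArg (cj (ρ ^ k.val)) (ws_s5 t u ht)
    simpa only [cj_cj_cj, cj_mul, rot_s xs ρ hρs, rot_l xl ρ hρl, add_zero] using h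
  ws_l0 k t c ht := by
    have h := congrArg (cj (ρ ^ k.val)) (ws_l0 t c ht)
    simpa only [cj_cj_cj, cj_mul, rot_s xs ρ hρs, rot_l xl ρ hρl, add_zero] using h
  ws_l1 k t c ht := by
    have h := congrArg (cj (ρ ^ k.val)) (ws_l1 t c ht)
    simpa only [cj_cj_cj, cj_mul, rot_s xs ρ hρs, rot_l xl ρ hρl, add_zero] using h
  ws_l2 k t c ht := by
    have h := congrArg (cj (ρ ^ k.val)) (ws_l2 t c ht)
    simpa only [cj_cj_cj, cj_mul, rot_s xs ρ hρs, rot_l xl ρ hρl, add_zero] using h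
  ws_l3 k t c ht := by
    have h := congrArg (cj (ρ ^ k.val)) (ws_l3 t c ht)
    simpa only [cj_cj_cj, cj_mul, rot_s xs ρ hρs, rot_l xl ρ hρl, add_zero] using h
  ws_l4 k t c ht := by
    have h := congrArg (cj (ρ ^ k.val)) (ws_l4 t c ht)
    simpa only [cj_cj_cj, cj_mul, rot_s xs ρ hρs, rot_l xl ρ hρl, add_zero] using h
  ws_l5 k t c ht := by
    have h := congrArg (cj (ρ ^ k.val)) (ws_l5 t c ht)
    simpa only [cj_cj_cj, cj_mul, rot_s xs ρ hρs, rot_l xl ρ hρl, add_zero] using h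
  wl_s0 k c u hc := by
    have h := congrArg (cj (ρ ^ k.val)) (wl_s0 c u hc)
    simpa only [cj_cj_cj, cj_mul, rot_s xs ρ hρs, rot_l xl ρ hρl, add_zero] using h
  wl_s1 k c u hc := by
    have h := congrArg (cj (ρ ^ k.val)) (wl_s1 c u hc)
    simpa only [cj_cj_cj, cj_mul, rot_s xs ρ hρs, rot_l xl ρ hρl, add_zero] using h
  wl_s2 k c u hc := by
    have h := congrArg (cj (ρ ^ k.val)) (wl_s2 c u hc)
    simpa only [cj_cj_cj, cj_mul, rot_s xs ρ hρs, rot_l xl ρ hρl, add_zero] using h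
  wl_s3 k c u hc := by
    have h := congrArg (cj (ρ ^ k.val)) (wl_s3 c u hc)
    simpa only [cj_cj_cj, cj_mul, rot_s xs ρ hρs, rot_l xl ρ hρl, add_zero] using h
  wl_s4 k c u hc := by
    have h := congrArg (cj (ρ ^ k.val)) (wl_s4 c u hc)
    simpa only [cj_cj_cj, cj_mul, rot_s xs ρ hρs, rot_l xl ρ hρl, add_zero] using h
  wl_s5 k c u hc := by
    have h := congrArg (cj (ρ ^ k.val)) (wl_s5 c u hc)
    simpa only [cj_cj_cj, cj_mul, rot_s xs ρ hρs, rot_l xl ρ hρl, add_zero] using h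
  wl_l0 k c d hc := by
    have h := congrArg (cj (ρ ^ k.val)) (wl_l0 c d hc)
    simpa only [cj_cj_cj, cj_mul, rot_s xs ρ hρs, rot_l xl ρ hρl, add_zero] using h
  wl_l1 k c d hc := by
    have h := congrArg (cj (ρ ^ k.val)) (wl_l1 c d hc)
    simpa only [cj_cj_cj, cj_mul, rot_s xs ρ hρs, rot_l xl ρ hρl, add_zero] using h
  wl_l2 k c d hc := by
    have h := congrArg (cj (ρ ^ k.val)) (wl_l2 c d hc)
    simpa only [cj_cj_cj, cj_mul, rot_s xs ρ hρs, rot_l xl ρ hρl, add_zero] using h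
  wl_l3 k c d hc := by
    have h := congrArg (cj (ρ ^ k.val)) (wl_l3 c d hc)
    simpa only [cj_cj_cj, cj_mul, rot_s xs ρ hρs, rot_l xl ρ hρl, add_zero] using h
  wl_l4 k c d hc := by
    have h := congrArg (cj (ρ ^ k.val)) (wl_l4 c d hc)
    simpa only [cj_cj_cj, cj_mul, rot_s xs ρ hρs, rot_l xl ρ hρl, add_zero] using h
  wl_l5 k c d hc := by
    have h := congrArg (cj (ρ ^ k.val)) (wl_l5 c d hc)
    simpa only [cj_cj_cj, cj_mul, rot_s xs ρ hρs, rot_l xl ρ hρl, add_zero] using h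

end Cfsg.Agent.Lib.helper14.T3S
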