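import Mathlib
import Cfsg.Prelude.Def_KGroupFacts
import Cfsg.Prelude.Def_LieTwisted
import Cfsg.Agent.Lib.helper17.T3.Fld
import Cfsg.Agent.Lib.Helper19.T3A.Defs
import Cfsg.Agent.Lib.Helper21.SchurCyclic
import Cfsg.Agent.Lib.helper14.T3S.FinalCore

/-!
# Project T3S (helper14): **S2110** from the end statements of T3M (the model), T3C (the lifted
system) and T3A (injectivity from a lifted system)
-/

set_option autoImplicit false

namespace Cfsg.Agent.Lib.helper14.T3S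

open Cfsg Cfsg.Lie Cfsg.Agent.Lib.helper15.St2 Cfsg.Agent.Lib.helper7.Ce Cfsg.Agent.Lib.helper17.T3

universe u

/-- **S2110** on the three end statements. -/
theorem s2110_core {K : Type u} [Field K] [Fintype K] {q : ℕ} (hq : IsPrimePow q)
    (hK : Fintype.card K = q ^ 3) [Finite ↥(twistedD4 K q)]
    (S : SysT (cubQ hq hK) ↥(twistedD4 K q)) (hgen : S.gen = ⊤)
    (hlift : ∀ (Γ : Type u) [Group Γ] [Finite Γ] (σ : Γ →* ↥(twistedD4 K q)), IsCE σ →
      ∃ Q : SysT (cubQ hq hK) Γ, (∀ k t, σ (Q.xs k t) = S.xs k t) ∧ ∀ k c, σ (Q.xl k c) = S.xl k c)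
    (hinj : ∀ (Γ : Type u) [Group Γ] (Q : SysT (cubQ hq hK) Γ) (π : Γ →* ↥(twistedD4 K q)),
      Q.gen = ⊤ → (∀ k t, π (Q.xs k t) = S.xs k t) → (∀ k c, π (Q.xl k c) = S.xl k c) →
      Function.Injective π) :
    Cfsg.HasCyclicSchurMultiplier ↥(twistedD4 K q) 1 := by
  refine ⟨Cfsg.Agent.Lib.Helper21.exists_trivial_stem _, ?_⟩
  intro Γ _ _ σ hσ
  refine ⟨1, ?_⟩
  intro y
  refine ⟨1, ?_⟩
  apply Subtype.ext
  rw [MonoidHom.one_apply]
  have hce : IsCE σ := ⟨hσ.1, hσ.2.1⟩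
  exact (stem_trivial_core2 hσ S hgen (hlift Γ σ hce)
    (fun Q hQ hs hl => hinj Γ Q σ hQ hs hl) y.1 y.2).symm

end Cfsg.Agent.Lib.helper14.T3S
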