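import Mathlib
import Cfsg.Prelude.Def_KGroupFacts
import Cfsg.Prelude.Def_LieTwisted
import Cfsg.Agent.Lib.helper17.T3.FldDat
import Cfsg.Agent.Lib.helper8.T3M.Sys
import Cfsg.Agent.Lib.Helper19.T3AK3
import Cfsg.Agent.Lib.Helper21.SchurCyclic
import Cfsg.Agent.Lib.helper14.T3S.FinalCore
import Cfsg.Agent.Lib.helper14.T3S.FinD4

/-!
# Project T3S (helper14): **S2110** from the three end statements that are still open:
`(sysT D).gen = ⊤`, `(sysT D).ModelOK` (project T3M) and `exists_lift_sysT` (project T3C, row M1),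
for the concrete datum `D = datQ hq hK`.  Injectivity: `SysT.inj_of_model'` (project T3A, landed).
-/

set_option autoImplicit false

namespace Cfsg.Agent.Lib.helper14.T3S

open Cfsg Cfsg.Lie Cfsg.Agent.Lib.helper15.St2 Cfsg.Agent.Lib.helper7.Ce Cfsg.Agent.Lib.helper17.T3
open Cfsg.Agent.Lib.helper8.T3M

universe u

/-- **S2110** on the end statements of T3M and T3C. -/
theorem s2110_pre {K : Type u} [Field K] [Fintype K] {q : ℕ} (hq : IsPrimePow q)
    (hK : Fintype.card K = q ^ 3)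
    (hgen : (sysT (datQ hq hK)).gen = ⊤) (hM : (sysT (datQ hq hK)).ModelOK)
    (hlift : ∀ (Γ : Type u) [Group Γ] [Finite Γ] (σ : Γ →* ↥(twistedD4 K q)), IsCE σ →
      ∃ Q : SysT (datQ hq hK).cub Γ, (∀ k t, σ (Q.xs k t) = (sysT (datQ hq hK)).xs k t) ∧
        ∀ k c, σ (Q.xl k c) = (sysT (datQ hq hK)).xl k c) :
    Cfsg.HasCyclicSchurMultiplier ↥(twistedD4 K q) 1 := by
  haveI : Finite ↥(twistedD4 K q) := finite_twistedD4 hq hK
  refine ⟨Cfsg.Agent.Lib.Helper21.exists_trivial_stem _, ?_⟩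
  intro Γ _ _ σ hσ
  refine ⟨1, ?_⟩
  intro y
  refine ⟨1, ?_⟩
  apply Subtype.ext
  rw [MonoidHom.one_apply]
  have hce : IsCE σ := ⟨hσ.1, hσ.2.1⟩
  exact (stem_trivial_core2 hσ (sysT (datQ hq hK)) hgen (hlift Γ σ hce)
    (fun Q hQ hs hl => Q.inj_of_model' σ hQ (sysT (datQ hq hK)) hs hl hM) y.1 y.2).symm

end Cfsg.Agent.Lib.helper14.T3S
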