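import Mathlib
import Cfsg.Agent.Lib.helper17.T3.Defs
import Cfsg.Agent.Lib.Helper19.T3A.Defs
import Cfsg.Agent.Lib.Helper11.T3AK0

/-!
# Project T3S (helper14): generic tools for the model —
* `SysT.ofInj`: pull a system back along an injective homomorphism;
* `SysT.four_mem`: a subgroup containing the four families `xs 0`, `xs 3`, `xl 2`, `xl 5`
  contains all root elements;
* `SysT.gen_eq_top_of_le`, `ModelOK.of_map`: generation and `ModelOK` for the pulled back system.
-/

set_option autoImplicit false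

namespace Cfsg.Agent.Lib.helper14.T3S

open Cfsg.Agent.Lib.helper15.St2 Cfsg.Agent.Lib.helper7.Ce Cfsg.Agent.Lib.helper17.T3

variable {F K : Type*} [Field F] [Field K] [Algebra F K] {C : Cub F K}
variable {Γ G : Type*} [Group Γ] [Group G]

/-- pull a system back along an injective homomorphism -/
def SysT.ofInj (S : SysT C G) (π : Γ →* G) (hπ : Function.Injective π) (xs : ZMod 6 → K → Γ)
    (xl : ZMod 6 → F → Γ) (hs : ∀ k t, π (xs k t) = S.xs k t) (hl : ∀ k c, π (xl k c) = S.xl k c) :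
    SysT C Γ where
  xs := xs
  xl := xl
  adds k s t := hπ (by rw [map_mul, hs, hs, hs]; exact S.adds k s t)
  addl k c d := hπ (by rw [map_mul, hl, hl, hl]; exact S.addl k c d)
  c_sl0 k s c := hπ (by rw [map_mul, map_mul, hs, hl]; exact S.c_sl0 k s c)
  c_sl1 k s c := hπ (by rw [map_mul, map_mul, hs, hl]; exact S.c_sl1 k s c)
  c_ls1 k c s := hπ (by rw [map_mul, map_mul, hs, hl]; exact S.c_ls1 k c s)
  c_ll1 k c d := hπ (by rw [map_mul, map_mul, hl, hl]; exact S.c_ll1 k c d)
  c_ls2 k c s := hπ (by rw [map_mul, map_mul, hs, hl]; exact S.c_ls2 k c s)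
  ss1 k s t := hπ (by rw [map_cm, hs, hs, hl]; exact S.ss1 k s t)
  ss2 k s t := hπ (by rw [map_cm, map_mul, map_mul, hs, hs, hs, hl, hl]; exact S.ss2 k s t)
  sl k s c := hπ (by
    rw [map_cm, map_mul, map_mul, map_mul, hs, hs, hs, hl, hl, hl]; exact S.sl k s c)
  ll k c d := hπ (by rw [map_cm, hl, hl, hl]; exact S.ll k c d)
  ls k c t := hπ (by
    rw [map_cm, map_mul, map_mul, map_mul, hs, hs, hs, hl, hl, hl]; exact S.ls k c t)
  ws_s0 k t u ht := hπ (by simp only [map_cj, map_mul, hs, hl]; exact S.ws_s0 k t u ht)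
  ws_s1 k t u ht := hπ (by simp only [map_cj, map_mul, hs, hl]; exact S.ws_s1 k t u ht)
  ws_s2 k t u ht := hπ (by simp only [map_cj, map_mul, hs, hl]; exact S.ws_s2 k t u ht)
  ws_s3 k t u ht := hπ (by simp only [map_cj, map_mul, hs, hl]; exact S.ws_s3 k t u ht)
  ws_s4 k t u ht := hπ (by simp only [map_cj, map_mul, hs, hl]; exact S.ws_s4 k t u ht)
  ws_s5 k t u ht := hπ (by simp only [map_cj, map_mul, hs, hl]; exact S.ws_s5 k t u ht)
  ws_l0 k t c ht := hπ (by simp only [map_cj, map_mul, hs, hl]; exact S.ws_l0 k t c ht)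
  ws_l1 k t c ht := hπ (by simp only [map_cj, map_mul, hs, hl]; exact S.ws_l1 k t c ht)
  ws_l2 k t c ht := hπ (by simp only [map_cj, map_mul, hs, hl]; exact S.ws_l2 k t c ht)
  ws_l3 k t c ht := hπ (by simp only [map_cj, map_mul, hs, hl]; exact S.ws_l3 k t c ht)
  ws_l4 k t c ht := hπ (by simp only [map_cj, map_mul, hs, hl]; exact S.ws_l4 k t c ht)
  ws_l5 k t c ht := hπ (by simp only [map_cj, map_mul, hs, hl]; exact S.ws_l5 k t c ht)
  wl_s0 k c u hc := hπ (by simp only [map_cj, map_mul, hs, hl]; exact S.wl_s0 k c u hc)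
  wl_s1 k c u hc := hπ (by simp only [map_cj, map_mul, hs, hl]; exact S.wl_s1 k c u hc)
  wl_s2 k c u hc := hπ (by simp only [map_cj, map_mul, hs, hl]; exact S.wl_s2 k c u hc)
  wl_s3 k c u hc := hπ (by simp only [map_cj, map_mul, hs, hl]; exact S.wl_s3 k c u hc)
  wl_s4 k c u hc := hπ (by simp only [map_cj, map_mul, hs, hl]; exact S.wl_s4 k c u hc)
  wl_s5 k c u hc := hπ (by simp only [map_cj, map_mul, hs, hl]; exact S.wl_s5 k c u hc)
  wl_l0 k c d hc := hπ (by simp only [map_cj, map_mul, hs, hl]; exact S.wl_l0 k c d hc)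
  wl_l1 k c d hc := hπ (by simp only [map_cj, map_mul, hs, hl]; exact S.wl_l1 k c d hc)
  wl_l2 k c d hc := hπ (by simp only [map_cj, map_mul, hs, hl]; exact S.wl_l2 k c d hc)
  wl_l3 k c d hc := hπ (by simp only [map_cj, map_mul, hs, hl]; exact S.wl_l3 k c d hc)
  wl_l4 k c d hc := hπ (by simp only [map_cj, map_mul, hs, hl]; exact S.wl_l4 k c d hc)
  wl_l5 k c d hc := hπ (by simp only [map_cj, map_mul, hs, hl]; exact S.wl_l5 k c d hc)

/-- the norm of `1` (own copy) -/
lemma cub_nm_one (C : Cub F K) : C.nm 1 = 1 := by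
  apply (algebraMap F K).injective
  rw [C.hnm, map_one, map_one, map_one, one_mul, one_mul]

/-- **A subgroup containing the four generating families contains all root elements.** -/
theorem SysT.four_mem (S : SysT C G) (H : Subgroup G) (h0 : ∀ t, S.xs 0 t ∈ H)
    (h3 : ∀ t, S.xs 3 t ∈ H) (l2 : ∀ c, S.xl 2 c ∈ H) (l5 : ∀ c, S.xl 5 c ∈ H) :
    (∀ k t, S.xs k t ∈ H) ∧ (∀ k c, S.xl k c ∈ H) := by
  have hK1 : (1 : K) ≠ 0 := one_ne_zero
  have hF1 : (1 : F) ≠ 0 := one_ne_zero
  have hn1 : C.nm 1 = 1 := cub_nm_one C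
  -- the two Weyl elements
  have e21 : (2 : ZMod 6) + 1 = 3 := by decide
  have e22 : (2 : ZMod 6) + 2 = 4 := by decide
  have e23 : (2 : ZMod 6) + 3 = 5 := by decide
  have e24 : (2 : ZMod 6) + 4 = 0 := by decide
  have e25 : (2 : ZMod 6) + 5 = 1 := by decide
  have hwa : S.xs 0 1 * S.xs 3 1 * S.xs 0 1 ∈ H := H.mul_mem (H.mul_mem (h0 _) (h3 _)) (h0 _)
  have hwb : S.xl 2 1 * S.xl 5 1 * S.xl 2 1 ∈ H := H.mul_mem (H.mul_mem (l2 _) (l5 _)) (l2 _)
  have hcj : ∀ {w x : G}, w ∈ H → x ∈ H → cj w x ∈ H := by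
    intro w x hw hx
    unfold cj
    exact H.mul_mem (H.mul_mem hw hx) (H.inv_mem hw)
  -- short roots
  have s2 : ∀ u, S.xs 2 u ∈ H := by
    intro u
    have h := S.wl_s4 2 1 u hF1
    simp only [zero_add, e21, e22, e23, e24, e25, inv_one, one_smul, one_pow, one_mul, hn1,
      neg_neg] at h
    rw [← h]
    exact hcj hwb (h0 u)
  have s5 : ∀ u, S.xs 5 u ∈ H := by
    intro u
    have h := S.wl_s1 2 1 u hF1
    simp only [zero_add, e21, e22, e23, e24, e25, inv_one, one_smul, one_pow, one_mul, hn1,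
      neg_neg] at h
    rw [← h]
    exact hcj hwb (h3 u)
  have s1 : ∀ u, S.xs 1 u ∈ H := by
    intro u
    have h := S.ws_s2 0 1 (-u) hK1
    simp only [zero_add, e21, e22, e23, e24, e25, inv_one, one_smul, one_pow, one_mul, hn1,
      neg_neg] at h
    rw [← h]
    exact hcj hwa (s2 (-u))
  have s4 : ∀ u, S.xs 4 u ∈ H := by
    intro u
    have h := S.ws_s5 0 1 (-u) hK1
    simp only [zero_add, e21, e22, e23, e24, e25, inv_one, one_smul, one_pow, one_mul, hn1,
      neg_neg] at h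
    rw [← h]
    exact hcj hwa (s5 (-u))
  -- long roots
  have L0 : ∀ c, S.xl 0 c ∈ H := by
    intro c
    have h := S.ws_l2 0 1 c hK1
    simp only [zero_add, e21, e22, e23, e24, e25, inv_one, one_smul, one_pow, one_mul, hn1,
      neg_neg] at h
    rw [← h]
    exact hcj hwa (l2 c)
  have L3 : ∀ c, S.xl 3 c ∈ H := by
    intro c
    have h := S.ws_l5 0 1 c hK1
    simp only [zero_add, e21, e22, e23, e24, e25, inv_one, one_smul, one_pow, one_mul, hn1,
      neg_neg] at h
    rw [← h]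
    exact hcj hwa (l5 c)
  have L4 : ∀ c, S.xl 4 c ∈ H := by
    intro c
    have h := S.wl_l1 2 1 (-c) hF1
    simp only [zero_add, e21, e22, e23, e24, e25, inv_one, one_smul, one_pow, one_mul, hn1,
      neg_neg] at h
    rw [← h]
    exact hcj hwb (L3 (-c))
  have L1 : ∀ c, S.xl 1 c ∈ H := by
    intro c
    have h := S.wl_l4 2 1 (-c) hF1
    simp only [zero_add, e21, e22, e23, e24, e25, inv_one, one_smul, one_pow, one_mul, hn1,
      neg_neg] at h
    rw [← h]
    exact hcj hwb (L0 (-c))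
  constructor
  · intro k t
    rcases Cfsg.Agent.Lib.Helper19.T3A.exists_add 0 k with rfl | rfl | rfl | rfl | rfl | rfl
    · exact h0 t
    · rw [zero_add]; exact s1 t
    · rw [zero_add]; exact s2 t
    · rw [zero_add]; exact h3 t
    · rw [zero_add]; exact s4 t
    · rw [zero_add]; exact s5 t
  · intro k c
    rcases Cfsg.Agent.Lib.Helper19.T3A.exists_add 0 k with rfl | rfl | rfl | rfl | rfl | rfl
    · exact L0 c
    · rw [zero_add]; exact L1 c
    · rw [zero_add]; exact l2 c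
    · rw [zero_add]; exact L3 c
    · rw [zero_add]; exact L4 c
    · rw [zero_add]; exact l5 c

/-- generation of the pulled back system: if `π` is injective and its range lies in the subgroup
generated by the root elements of `S`, the pulled back system generates -/
theorem SysT.gen_eq_top_of_le (S : SysT C G) (π : Γ →* G) (hπ : Function.Injective π)
    (Q : SysT C Γ) (hs : ∀ k t, π (Q.xs k t) = S.xs k t) (hl : ∀ k c, π (Q.xl k c) = S.xl k c)
    (hle : π.range ≤ S.gen) : Q.gen = ⊤ := by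
  rw [eq_top_iff]
  intro x _
  have hx : π x ∈ S.gen := hle ⟨x, rfl⟩
  have key : ∀ y ∈ S.gen, ∃ z ∈ Q.gen, π z = y := by
    intro y hy
    unfold SysT.gen at hy
    induction hy using Subgroup.closure_induction with
    | mem y hy =>
      rcases hy with ⟨k, t, rfl⟩ | ⟨k, c, rfl⟩
      · exact ⟨Q.xs k t, Subgroup.subset_closure (Or.inl ⟨k, t, rfl⟩), hs k t⟩
      · exact ⟨Q.xl k c, Subgroup.subset_closure (Or.inr ⟨k, c, rfl⟩), hl k c⟩
    | one => exact ⟨1, Subgroup.one_mem _, map_one π⟩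
    | mul a b _ _ ha hb =>
      obtain ⟨z, hz, rfl⟩ := ha
      obtain ⟨z', hz', rfl⟩ := hb
      exact ⟨z * z', Subgroup.mul_mem _ hz hz', map_mul π z z'⟩
    | inv a _ ha =>
      obtain ⟨z, hz, rfl⟩ := ha
      exact ⟨z⁻¹, Subgroup.inv_mem _ hz, map_inv π z⟩
  obtain ⟨z, hz, e⟩ := key _ hx
  rw [← hπ e]
  exact hz

/-- `ModelOK` passes to a system mapping onto a model system -/
theorem ModelOK_of_map (S : SysT C G) (π : Γ →* G) (Q : SysT C Γ)
    (hQ : Q.map π = S) (hM : S.ModelOK) : Q.ModelOK := by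
  subst hQ
  refine ⟨?_, ?_, ?_⟩
  · intro t c s0 l0 s1 l1 s2 l2 ht hc h
    apply hM.tu t c s0 l0 s1 l1 s2 l2 ht hc
    rw [SysT.map_hs, SysT.map_hl, SysT.map_uprod, ← map_mul, ← map_mul, h, map_one]
  · intro h
    exact hM.bn_a (by have := SysT.map_Bor Q π h; rwa [← SysT.map_xs] at this)
  · intro h
    exact hM.bn_b (by have := SysT.map_Bor Q π h; rwa [← SysT.map_xl] at this)

end Cfsg.Agent.Lib.helper14.T3S
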